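import Groth.Agent.Lib.FunField.Basic
import Groth.Agent.Lib.Curve17.FunctionField
import Groth.Agent.Lib.CurveCoh17.HZero
import Groth.Agent.Lib.VB17.Setup
import Groth.Agent.Lib.SmoothReg17.Basic
import Groth.Prelude.Def_CurvBase
import Mathlib.RingTheory.DedekindDomain.AdicValuation

/-!
# A rational point: constant global functions and a place of degree one
-/

set_option linter.style.haveILetI false
set_option autoImplicit false
set_option maxHeartbeats 800000

universe u

open CategoryTheory CategoryTheory.Limits AlgebraicGeometry TopologicalSpace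

noncomputable section

namespace Groth.Agent.WeierModel17

variable {k : Type u} [Field k] {E : Scheme.{u}} [E.Over (Spec (CommRingCat.of k))] [IsIntegral E]
  [IsProper (E ↘ Spec (CommRingCat.of k))]
  (o : Spec (CommRingCat.of k) ⟶ E) (ho : o ≫ (E ↘ Spec (CommRingCat.of k)) = 𝟙 _)

include ho in
/-- With a rational point only the constants are global functions. -/
theorem h0_eq_one_of_point (hX : CurveCoh17.CurveLike k E) :
    Module.finrank k (Coh.HH E (Coh.structureModule E) 0) = 1 := by
  haveI := hX.noetherian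
  let p := E ↘ Spec (CommRingCat.of k)
  let g : k →+* Γ(E, ⊤) := Coh.toGlobal p
  letI : Algebra k Γ(E, ⊤) := g.toAlgebra
  haveI := hX.fin _ (CurveCoh17.isCoh_of_ofRank ((M2.isInvertible_iff_isFinLocFreeOfRank_one _).1
    (PicLoc.isInvertible_structureModule E))) 0
  let e : Coh.HH E (Coh.structureModule E) 0 ≃+ Γ(E, ⊤) := CurveCoh17.hh0 (Coh.structureModule E)
  let el : Coh.HH E (Coh.structureModule E) 0 ≃ₗ[k] Γ(E, ⊤) :=
    { e with map_smul' := fun c x => CurveCoh17.hh0_smul (M := Coh.structureModule E) _ x }
  haveI : Module.Finite k Γ(E, ⊤) := Module.Finite.equiv el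
  haveI : Nonempty ((⊤ : E.Opens) : Scheme.{u}) := ⟨⟨genericPoint E, trivial⟩⟩
  let ev : Γ(E, ⊤) →+* k := (o.appTop ≫ (Scheme.ΓSpecIso (CommRingCat.of k)).hom).hom
  have hev : ∀ c : k, ev (algebraMap k Γ(E, ⊤) c) = c := fun c => by
    show ((Scheme.ΓSpecIso (CommRingCat.of k)).inv ≫ p.appTop ≫ o.appTop ≫ (Scheme.ΓSpecIso (CommRingCat.of k)).hom) c = c
    rw [← Scheme.Hom.comp_appTop_assoc, ho]
    simp
  have hF : IsField Γ(E, ⊤) :=
    isField_of_isIntegral_of_isField' (R := k) (Field.toIsField k)
  letI := hF.toField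
  have hb : Function.Bijective (algebraMap k Γ(E, ⊤)) :=
    ⟨(algebraMap k Γ(E, ⊤)).injective, fun w => ⟨ev w, ev.injective (hev _)⟩⟩
  rw [el.finrank_eq, ← (LinearEquiv.ofBijective (Algebra.linearMap k Γ(E, ⊤)) hb).finrank_eq, Module.finrank_self]

omit [IsIntegral E] in
include ho in
/-- The value map at a rational point. -/
theorem exists_value :
    ∃ z : E, IsClosed ({z} : Set E) ∧ ∃ r : E.presheaf.stalk z →+* k,
      ∀ c : k, r (Curve17.baseStalk (E ↘ Spec (CommRingCat.of k)) z c) = c := by
  haveI : IsClosedImmersion (o ≫ (E ↘ Spec (CommRingCat.of k))) := by rw [ho]; infer_instance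
  haveI : IsClosedImmersion o := IsClosedImmersion.of_comp o (E ↘ Spec (CommRingCat.of k))
  refine ⟨o (IsLocalRing.closedPoint k), ?_, (Scheme.stalkClosedPointTo o).hom, ?_⟩
  · have h := o.isClosedEmbedding.isClosedMap _ (isClosed_univ (X := Spec (CommRingCat.of k)))
    haveI : Subsingleton (Spec (CommRingCat.of k)) := inferInstanceAs (Subsingleton (PrimeSpectrum k))
    have huniv : o '' Set.univ = ({o (IsLocalRing.closedPoint k)} : Set E) := Set.eq_singleton_iff_unique_mem.2
      ⟨⟨IsLocalRing.closedPoint k, trivial, rfl⟩, by rintro _ ⟨w, -, rfl⟩; exact congrArg o (Subsingleton.elim _ _)⟩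
    rwa [huniv] at h
  · have h : Curve17.baseStalk (E ↘ Spec (CommRingCat.of k)) (o (IsLocalRing.closedPoint k)) ≫
        Scheme.stalkClosedPointTo o = 𝟙 _ := by
      apply Spec.map_injective
      rw [Spec.map_comp, Curve17.SpecMap_baseStalk, Spec.map_id, Scheme.Spec_stalkClosedPointTo_fromSpecStalk_assoc, ho]
    intro c
    exact RingHom.congr_fun (congrArg CommRingCat.Hom.hom h) c

attribute [local instance] Curv2.stalkAlgebra

include ho in
/-- The place of a rational point has degree one. -/
theorem exists_place_of_point [Smooth (E ↘ Spec (CommRingCat.of k))] (hdim : topologicalKrullDim E = 1) :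
    ∃ P : FunFld.Place k E.functionField, P.deg = 1 := by
  obtain ⟨z, hz, r, hr⟩ := exists_value o ho
  let p := E ↘ Spec (CommRingCat.of k)
  haveI : IsLocallyNoetherian E := LocallyOfFiniteType.isLocallyNoetherian p
  haveI := SmoothReg17.isIntegrallyClosed_stalk p z
  haveI : IsDiscreteValuationRing (E.presheaf.stalk z) := Curve17.isDiscreteValuationRing_stalk hdim hz
  haveI : Nonempty ((⊤ : E.Opens) : Scheme.{u}) := ⟨⟨z, trivial⟩⟩
  have hconst : ∀ c : k, algebraMap (E.presheaf.stalk z) E.functionField (Curve17.baseStalk p z c) =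
      algebraMap k E.functionField c := fun c => by
    show algebraMap (E.presheaf.stalk z) E.functionField
      (E.presheaf.germ ⊤ z trivial (p.appTop ((Scheme.ΓSpecIso (CommRingCat.of k)).inv c))) = _
    rw [Scheme.algebraMap_germ_eq_germToFunctionField (X := E) (x := z) (U := ⊤) trivial]
    rfl
  let v := IsDiscreteValuationRing.maximalIdeal (E.presheaf.stalk z)
  obtain ⟨P, hPv⟩ : ∃ P : FunFld.Place k E.functionField, P.1 = v.valuation E.functionField :=
    ⟨⟨v.valuation E.functionField, fun c => by rw [← hconst]; exact v.valuation_le_one _,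
      v.valuation_surjective E.functionField⟩, rfl⟩
  refine ⟨P, ?_⟩
  have hsurj : Function.Surjective (algebraMap k (IsLocalRing.ResidueField P.O)) := fun q => by
    obtain ⟨w, rfl⟩ := IsLocalRing.residue_surjective q
    obtain ⟨s, hs⟩ := IsDiscreteValuationRing.exists_lift_of_le_one (A := E.presheaf.stalk z) (K := E.functionField) (hPv ▸ w.2 : v.valuation E.functionField (w : E.functionField) ≤ 1)
    refine ⟨r s, ?_⟩
    show IsLocalRing.residue P.O (algebraMap k P.O (r s)) = _
    rw [← sub_eq_zero, ← map_sub, FunField.residue_eq_zero_iff]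
    have hmem : Curve17.baseStalk p z (r s) - s ∈ IsLocalRing.maximalIdeal (E.presheaf.stalk z) := by
      rw [IsLocalRing.mem_maximalIdeal, mem_nonunits_iff]
      intro hu
      have h1 := hu.map r
      rw [map_sub] at h1
      rw [hr, sub_self] at h1
      exact not_isUnit_zero h1
    rw [hPv]
    show v.valuation E.functionField (((algebraMap k P.O (r s) : P.O) : E.functionField) - (w : E.functionField)) < 1
    rw [FunField.coe_algebraMap_O, ← hconst, ← hs, ← map_sub]
    exact (v.valuation_lt_one_iff_mem _).2 hmem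
  exact (LinearEquiv.ofBijective (Algebra.linearMap k (IsLocalRing.ResidueField P.O))
    ⟨(algebraMap k (IsLocalRing.ResidueField P.O)).injective, hsurj⟩).finrank_eq.symm.trans (Module.finrank_self k)

end Groth.Agent.WeierModel17
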