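import Groth.Agent.S10998
import Groth.Agent.Lib.FunField.GenusOne

/-!
# Weierstrass coordinates on a genus one function field
-/

set_option autoImplicit false

open WithZero FunFld
open scoped Multiplicative

namespace Groth.Agent.WeierModel17

variable {k K : Type*} [Field k] [Field K] [Algebra k K]

/-- A pair of functions with the pole behaviour of Weierstrass coordinates, with their relation. -/
structure Coords (P : Place k K) (a₁ a₂ a₃ a₄ a₆ : k) (x y : K) : Prop where
  memx : x ∈ FunFld.L (Finsupp.single P (2 : ℤ))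
  memy : y ∈ FunFld.L (Finsupp.single P (3 : ℤ))
  ordx : P.ord x = -2
  ordy : P.ord y = -3
  rel : y ^ 2 + algebraMap k K a₁ * x * y + algebraMap k K a₃ * y =
      x ^ 3 + algebraMap k K a₂ * x ^ 2 + algebraMap k K a₄ * x + algebraMap k K a₆

theorem const_mem (P : Place k K) (c : k) {n : ℤ} (hn : 0 ≤ n) :
    algebraMap k K c ∈ FunFld.L (Finsupp.single P n) := by
  refine FunField.mem_L.2 fun Q => (Q.2.1 c).trans ?_
  rw [← exp_zero, exp_le_exp]
  exact (Finsupp.single_nonneg.2 hn) Q

theorem ord_eq_of_not_mem {P : Place k K} {n : ℤ} {z : K} (hz : z ∈ FunFld.L (Finsupp.single P n))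
    (hn : z ∉ FunFld.L (Finsupp.single P (n - 1))) : P.ord z = -n := by
  have hz0 : z ≠ 0 := fun e => hn (e ▸ zero_mem _)
  have h1 := (FunField.mem_L_iff_ord hz0).1 hz
  have hP := h1 P
  rw [Finsupp.single_eq_same] at hP
  by_contra hne
  refine hn ((FunField.mem_L_iff_ord hz0).2 fun Q => ?_)
  rcases eq_or_ne Q P with rfl | hQ
  · rw [Finsupp.single_eq_same]; omega
  · have := h1 Q
    rw [Finsupp.single_eq_of_ne hQ] at this ⊢
    exact this

theorem not_mem_of_ord {P : Place k K} {n : ℤ} {z : K} (h : P.ord z = -n) (hn : n ≠ 0) :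
    z ∉ FunFld.L (Finsupp.single P (n - 1)) := fun hm => by
  have hz0 : z ≠ 0 := fun e => by rw [e, FunField.ord_zero] at h; omega
  have := (FunField.mem_L_iff_ord hz0).1 hm P
  rw [Finsupp.single_eq_same, h] at this
  omega

/-- An affine change of coordinates keeps the pole behaviour. -/
theorem change {P : Place k K} {x y : K} (hx : x ∈ FunFld.L (Finsupp.single P (2 : ℤ)))
    (hy : y ∈ FunFld.L (Finsupp.single P (3 : ℤ))) (hxo : P.ord x = -2) (hyo : P.ord y = -3)
    (α β r s t : k) (hα : α ≠ 0) (hβ : β ≠ 0) :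
    algebraMap k K α * x + algebraMap k K r ∈ FunFld.L (Finsupp.single P (2 : ℤ)) ∧
      algebraMap k K β * y + algebraMap k K s * x + algebraMap k K t ∈ FunFld.L (Finsupp.single P (3 : ℤ)) ∧
      P.ord (algebraMap k K α * x + algebraMap k K r) = -2 ∧
      P.ord (algebraMap k K β * y + algebraMap k K s * x + algebraMap k K t) = -3 := by
  have hmono : ∀ {z : K} {m n : ℤ}, m ≤ n → z ∈ FunFld.L (Finsupp.single P m) → z ∈ FunFld.L (Finsupp.single P n) :=
    fun hmn hz => FunField.L_mono (Finsupp.single_mono hmn) hz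
  have hsm : ∀ (c : k) {n : ℤ} {z : K}, z ∈ FunFld.L (Finsupp.single P n) →
      algebraMap k K c * z ∈ FunFld.L (Finsupp.single P n) := fun c n z hz => by
    rw [← Algebra.smul_def]; exact Submodule.smul_mem _ c hz
  have hX := add_mem (hsm α hx) (const_mem P r (by norm_num : (0 : ℤ) ≤ 2))
  have hY := add_mem (add_mem (hsm β hy) (hsm s (hmono (by norm_num) hx))) (const_mem P t (by norm_num : (0 : ℤ) ≤ 3))
  refine ⟨hX, hY, ord_eq_of_not_mem hX fun h => ?_, ord_eq_of_not_mem hY fun h => ?_⟩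
  · refine not_mem_of_ord hxo (by norm_num) ?_
    have h1 := hsm α⁻¹ (sub_mem h (const_mem P r (by norm_num : (0 : ℤ) ≤ 2 - 1)))
    rwa [add_sub_cancel_right, ← mul_assoc, ← map_mul, inv_mul_cancel₀ hα, map_one, one_mul] at h1
  · refine not_mem_of_ord hyo (by norm_num) ?_
    have h1 := hsm β⁻¹ (sub_mem (sub_mem h (const_mem P t (by norm_num : (0 : ℤ) ≤ 3 - 1)))
      (hsm s (hmono (by norm_num) hx)))
    rwa [add_sub_cancel_right, add_sub_cancel_right, ← mul_assoc, ← map_mul, inv_mul_cancel₀ hβ, map_one, one_mul] at h1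

theorem exists_coords (hK : IsFunctionField k K) (hg : genus k K = 1) (P : Place k K) (hP : P.deg = 1) :
    ∃ (a₁ a₂ a₃ a₄ a₆ : k) (x y : K), Coords P a₁ a₂ a₃ a₄ a₆ x y := by
  obtain ⟨x, y, hx, hy, hxo, hyo, -, f, g, hf, hg3, hrel⟩ := Groth.Agent.S10998.result k K hK hg P hP
  have hc : g.coeff 3 ≠ 0 := by
    rw [← hg3]
    exact Polynomial.leadingCoeff_ne_zero.2 fun e => by simp [e] at hg3
  have hfe : Polynomial.aeval x f = algebraMap k K (f.coeff 0) + algebraMap k K (f.coeff 1) * x := by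
    rw [Polynomial.aeval_eq_sum_range' (show f.natDegree < 2 by omega)]
    simp [Finset.sum_range_succ, Algebra.smul_def]
  have hge : Polynomial.aeval x g = algebraMap k K (g.coeff 0) + algebraMap k K (g.coeff 1) * x +
      algebraMap k K (g.coeff 2) * x ^ 2 + algebraMap k K (g.coeff 3) * x ^ 3 := by
    rw [Polynomial.aeval_eq_sum_range' (show g.natDegree < 4 by omega)]
    simp [Finset.sum_range_succ, Algebra.smul_def]
  rw [hfe, hge] at hrel
  obtain ⟨h1, h2, h3, h4⟩ := change hx hy hxo hyo (-g.coeff 3) (-g.coeff 3) 0 0 0 (neg_ne_zero.2 hc) (neg_ne_zero.2 hc)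
  simp only [map_zero, zero_mul, add_zero] at h1 h2 h3 h4
  refine ⟨f.coeff 1, -g.coeff 2, -g.coeff 3 * f.coeff 0, g.coeff 3 * g.coeff 1,
    -(g.coeff 3 ^ 2 * g.coeff 0), _, _, h1, h2, h3, h4, ?_⟩
  simp only [map_mul, map_neg, map_pow]
  linear_combination (algebraMap k K (g.coeff 3)) ^ 2 * hrel

end Groth.Agent.WeierModel17
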