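import Groth.Agent.Lib.PlaneFF17.Smooth
import Groth.Agent.Lib.Curve17.FunctionField
import Groth.Agent.S0219

/-!
# Maps from a curve to a plane curve given by coordinates in the function field
-/

set_option linter.style.haveILetI false
set_option autoImplicit false
set_option maxHeartbeats 800000

universe u

open CategoryTheory CategoryTheory.Limits AlgebraicGeometry TopologicalSpace MvPolynomial

noncomputable section

namespace Groth.Agent.WeierModel17

attribute [local instance] Curv2.stalkAlgebra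

variable {k : Type u} [Field k] {E : Scheme.{u}} [E.Over (Spec (CommRingCat.of k))] [IsIntegral E]
  [IsProper (E ↘ Spec (CommRingCat.of k))] [Smooth (E ↘ Spec (CommRingCat.of k))]
  {d : ℕ} (f : LefPen.Form 2 k d)
  (ψ : LefPen13.A (LefPen.hypIdeal f).subschemeι 2 →ₐ[k] E.functionField)

/-- The morphism with given affine coordinates is finite and has these coordinates. -/
theorem exists_hom (hdim : topologicalKrullDim E = 1) (hinj : Function.Injective ψ) (a₀ : LefPen13.A (LefPen.hypIdeal f).subschemeι 2)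
    (ha₀ : Transcendental k (ψ a₀)) :
    ∃ h : E ⟶ (LefPen.hypIdeal f).subscheme,
      h ≫ (LefPen.hypIdeal f).subschemeι ≫ CohB1.ProjSpace.toSpec 2 k = E ↘ Spec (CommRingCat.of k) ∧ IsFinite h ∧
      ∃ hξV : genericPoint E ∈ h ⁻¹ᵁ LefPen13.V (LefPen.hypIdeal f).subschemeι 2,
        (∀ a, E.presheaf.germ _ (genericPoint E) hξV
          (h.appLE (LefPen13.V (LefPen.hypIdeal f).subschemeι 2) _ le_rfl a) = ψ a) ∧
        ∀ [IsIntegral (LefPen.hypIdeal f).subscheme],
          h (genericPoint E) = genericPoint (LefPen.hypIdeal f).subscheme := by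
  haveI : IsProper (CohB1.ProjSpace.toSpec 2 k) := ProjSpace.isProper_toSpec 2 k
  haveI : IsProper ((LefPen.hypIdeal f).subschemeι ≫ CohB1.ProjSpace.toSpec 2 k) := inferInstance
  have hV := LefPen13.isAffineOpen_V (LefPen.hypIdeal f).subschemeι 2
  let φ : Spec E.functionField ⟶ (LefPen.hypIdeal f).subscheme :=
    Spec.map (CommRingCat.ofHom ψ.toRingHom) ≫ hV.fromSpec
  have hφ : φ ≫ (LefPen.hypIdeal f).subschemeι ≫ CohB1.ProjSpace.toSpec 2 k =
      E.fromSpecStalk (genericPoint E) ≫ (E ↘ Spec (CommRingCat.of k)) := by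
    refine ((Category.assoc _ _ _).trans ?_).trans (Curve17.SpecMap_baseStalk (E ↘ Spec (CommRingCat.of k)) (genericPoint E))
    refine (congrArg (Spec.map (CommRingCat.ofHom ψ.toRingHom) ≫ ·) (LefPen13.fromSpec_toSpec_V (LefPen.hypIdeal f).subschemeι 2)).trans ?_
    refine (Spec.map_comp _ _).symm.trans (congrArg Spec.map ?_)
    ext c
    exact ψ.commutes c
  obtain ⟨h, hh, hgen⟩ := Curve17.exists_hom_of_spec (E ↘ Spec (CommRingCat.of k))
    ((LefPen.hypIdeal f).subschemeι ≫ CohB1.ProjSpace.toSpec 2 k)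
    (fun z => Curve17.valuationRing_stalk_of_normal (E ↘ Spec (CommRingCat.of k)) hdim
      (fun w => SmoothReg17.isIntegrallyClosed_stalk (E ↘ Spec (CommRingCat.of k)) w) z) φ hφ
  haveI : IsDomain (LefPen13.A (LefPen.hypIdeal f).subschemeι 2) := hinj.isDomain ψ.toRingHom
  let b₀ : Spec Γ((LefPen.hypIdeal f).subscheme, LefPen13.V (LefPen.hypIdeal f).subschemeι 2) :=
    ⟨RingHom.ker ψ.toRingHom, RingHom.ker_isPrime _⟩
  have hb₀ : Spec.map (CommRingCat.ofHom ψ.toRingHom) (IsLocalRing.closedPoint E.functionField) = b₀ := by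
    refine PrimeSpectrum.ext ?_
    show (IsLocalRing.maximalIdeal E.functionField).comap ψ.toRingHom = _
    rw [IsLocalRing.maximalIdeal_eq_bot]
    rfl
  have hξ : h (genericPoint E) = hV.fromSpec b₀ := by
    have h1 := congrArg (fun t => t (IsLocalRing.closedPoint E.functionField)) hgen
    refine (congrArg h Scheme.fromSpecStalk_closedPoint).symm.trans (h1.trans ?_)
    exact congrArg hV.fromSpec hb₀
  have hξV : genericPoint E ∈ h ⁻¹ᵁ LefPen13.V (LefPen.hypIdeal f).subschemeι 2 := by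
    show h (genericPoint E) ∈ LefPen13.V (LefPen.hypIdeal f).subschemeι 2
    rw [hξ]
    exact hV.range_fromSpec.le ⟨_, rfl⟩
  haveI : LocallyOfFiniteType (h ≫ (LefPen.hypIdeal f).subschemeι ≫ CohB1.ProjSpace.toSpec 2 k) := by
    rw [hh]; infer_instance
  haveI : LocallyOfFiniteType h :=
    locallyOfFiniteType_of_comp h ((LefPen.hypIdeal f).subschemeι ≫ CohB1.ProjSpace.toSpec 2 k)
  haveI : IsProper (h ≫ (LefPen.hypIdeal f).subschemeι ≫ CohB1.ProjSpace.toSpec 2 k) := by
    rw [hh]; infer_instance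
  haveI : IsProper h := IsProper.of_comp h ((LefPen.hypIdeal f).subschemeι ≫ CohB1.ProjSpace.toSpec 2 k)
  haveI : IsFinite h := by
    refine Groth.Agent.S0219.result k E _ (E ↘ Spec (CommRingCat.of k))
      ((LefPen.hypIdeal f).subschemeι ≫ CohB1.ProjSpace.toSpec 2 k) h hh hdim.le fun Z hZ _ => ?_
    rw [irreducibleComponents_eq_singleton, Set.mem_singleton_iff] at hZ
    subst hZ
    rw [Set.image_univ]
    haveI : JacobsonSpace E := LocallyOfFiniteType.jacobsonSpace (E ↘ Spec (CommRingCat.of k))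
    obtain ⟨x₀, -, hx₀⟩ := nonempty_inter_closedPoints (Z := (Set.univ : Set E))
      ⟨genericPoint E, trivial⟩ isClosed_univ.isLocallyClosed
    refine ⟨_, ⟨x₀, rfl⟩, _, ⟨genericPoint E, rfl⟩, fun he => ?_⟩
    have hc : IsClosed ({h (genericPoint E)} : Set (LefPen.hypIdeal f).subscheme) := by
      have h1 := h.isClosedMap _ hx₀
      rw [Set.image_singleton] at h1
      rwa [show h (genericPoint E) = h x₀ from he.symm]
    have hcb : IsClosed ({b₀} : Set (Spec Γ((LefPen.hypIdeal f).subscheme, LefPen13.V (LefPen.hypIdeal f).subschemeι 2))) := by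
      have h1 := hc.preimage hV.fromSpec.continuous
      rw [hξ, ← Set.image_singleton, Set.preimage_image_eq _ hV.fromSpec.isOpenEmbedding.injective] at h1
      exact h1
    haveI hmax : (RingHom.ker ψ.toRingHom).IsMaximal := (PrimeSpectrum.isClosed_singleton_iff_isMaximal _).1 hcb
    let A := LefPen13.A (LefPen.hypIdeal f).subschemeι 2
    haveI : Algebra.FiniteType k A :=
      Algebra.FiniteType.of_surjective (PlaneFF17.chartAlgHom f 2) (PlaneFF17.chartAlgHom_surjective f 2)
    letI : Field (A ⧸ RingHom.ker ψ.toRingHom) := Ideal.Quotient.field _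
    haveI : Module.Finite k (A ⧸ RingHom.ker ψ.toRingHom) := finite_of_finite_type_of_isJacobsonRing k _
    let ψ' : (A ⧸ RingHom.ker ψ.toRingHom) →ₐ[k] E.functionField := Ideal.Quotient.liftₐ _ ψ fun a ha => ha
    refine ha₀ (IsIntegral.isAlgebraic ?_)
    show IsIntegral k (ψ' (Ideal.Quotient.mk _ a₀))
    exact (IsIntegral.of_finite k _).map ψ'
  have hU : IsAffineOpen (h ⁻¹ᵁ LefPen13.V (LefPen.hypIdeal f).subschemeι 2) := hV.preimage h
  have hαγ : h.appLE (LefPen13.V (LefPen.hypIdeal f).subschemeι 2) (h ⁻¹ᵁ LefPen13.V (LefPen.hypIdeal f).subschemeι 2) le_rfl ≫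
      E.presheaf.germ _ (genericPoint E) hξV = CommRingCat.ofHom ψ.toRingHom := by
    refine Spec.map_injective ((cancel_mono hV.fromSpec).1 ?_)
    rw [Spec.map_comp, Category.assoc, hV.SpecMap_appLE_fromSpec h hU le_rfl, ← Category.assoc]
    refine Eq.trans ?_ hgen
    rw [← hU.fromSpecStalk_eq_fromSpecStalk hξV]
    rfl
  refine ⟨h, hh, inferInstance, hξV, fun a => ConcreteCategory.congr_hom hαγ a, ?_⟩
  intro _
  rw [hξ]
  haveI : Nonempty (Spec Γ((LefPen.hypIdeal f).subscheme, LefPen13.V (LefPen.hypIdeal f).subschemeι 2)) := ⟨b₀⟩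
  haveI : IsDomain Γ((LefPen.hypIdeal f).subscheme, LefPen13.V (LefPen.hypIdeal f).subschemeι 2) :=
    inferInstanceAs (IsDomain (LefPen13.A (LefPen.hypIdeal f).subschemeι 2))
  rw [← genericPoint_eq_of_isOpenImmersion hV.fromSpec, genericPoint_eq_bot_of_affine]
  refine congrArg hV.fromSpec (PrimeSpectrum.ext ?_)
  exact (RingHom.injective_iff_ker_eq_bot _).1 hinj

variable {f}

omit [IsProper (E ↘ Spec (CommRingCat.of k))] [Smooth (E ↘ Spec (CommRingCat.of k))] in
/-- Sections over the preimage of the chart are regular wherever the coordinates are. -/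
theorem val_germ_le_one (h : E ⟶ (LefPen.hypIdeal f).subscheme) [IsFinite h]
    (hξV : genericPoint E ∈ h ⁻¹ᵁ LefPen13.V (LefPen.hypIdeal f).subschemeι 2)
    (hψ : ∀ a, E.presheaf.germ _ (genericPoint E) hξV
      (h.appLE (LefPen13.V (LefPen.hypIdeal f).subschemeι 2) _ le_rfl a) = ψ a)
    (Q : FunFld.Place k E.functionField) (hQ : ∀ a, Q.1 (ψ a) ≤ 1)
    (z : Γ(E, h ⁻¹ᵁ LefPen13.V (LefPen.hypIdeal f).subschemeι 2)) :
    Q.1 (E.presheaf.germ _ (genericPoint E) hξV z) ≤ 1 := by
  have hint : (h.appLE (LefPen13.V (LefPen.hypIdeal f).subschemeι 2) (h ⁻¹ᵁ LefPen13.V (LefPen.hypIdeal f).subschemeι 2) le_rfl).hom.Finite := by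
    rw [← Scheme.Hom.app_eq_appLE]
    exact IsFinite.finite_app (f := h) _ (LefPen13.isAffineOpen_V _ 2)
  obtain ⟨p, hp, hpz⟩ := hint.to_isIntegral z
  let ψQ : Γ((LefPen.hypIdeal f).subscheme, LefPen13.V (LefPen.hypIdeal f).subschemeι 2) →+* Q.O :=
    ψ.toRingHom.codRestrict Q.O.toSubring fun a => hQ a
  let γ := (E.presheaf.germ (h ⁻¹ᵁ LefPen13.V (LefPen.hypIdeal f).subschemeι 2) (genericPoint E) hξV).hom
  have hzQ : IsIntegral Q.O (γ z) := ⟨p.map ψQ, hp.map _, by
    refine (Polynomial.eval₂_map _ _ _).trans ?_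
    have h1 := congrArg γ hpz
    rw [map_zero, Polynomial.hom_eval₂] at h1
    refine Eq.trans ?_ h1
    exact congrArg (fun r => Polynomial.eval₂ r (γ z) p) (RingHom.ext fun a => (hψ a).symm)⟩
  obtain ⟨w, hw⟩ := IsIntegrallyClosed.isIntegral_iff.1 hzQ
  exact hw ▸ w.2

omit [IsIntegral E] [IsProper (E ↘ Spec (CommRingCat.of k))] in
/-- If the coordinate ring fills the sections over the preimage of the chart, the chart is smooth. -/
theorem smooth_chart_of_bijective (h : E ⟶ (LefPen.hypIdeal f).subscheme) [IsFinite h]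
    (hh : h ≫ (LefPen.hypIdeal f).subschemeι ≫ CohB1.ProjSpace.toSpec 2 k = E ↘ Spec (CommRingCat.of k))
    (hbij : Function.Bijective (h.appLE (LefPen13.V (LefPen.hypIdeal f).subschemeι 2)
      (h ⁻¹ᵁ LefPen13.V (LefPen.hypIdeal f).subschemeι 2) le_rfl)) :
    Algebra.Smooth k (LefPen13.A (LefPen.hypIdeal f).subschemeι 2) := by
  have hV := LefPen13.isAffineOpen_V (LefPen.hypIdeal f).subschemeι 2
  have hU : IsAffineOpen (h ⁻¹ᵁ LefPen13.V (LefPen.hypIdeal f).subschemeι 2) := hV.preimage h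
  let α := h.appLE (LefPen13.V (LefPen.hypIdeal f).subschemeι 2) (h ⁻¹ᵁ LefPen13.V (LefPen.hypIdeal f).subschemeι 2) le_rfl
  haveI : IsIso α := (ConcreteCategory.isIso_iff_bijective α).2 hbij
  haveI h1 : Smooth (Spec.map α ≫ hV.fromSpec ≫ (LefPen.hypIdeal f).subschemeι ≫ CohB1.ProjSpace.toSpec 2 k) := by
    rw [← Category.assoc, hV.SpecMap_appLE_fromSpec h hU le_rfl, Category.assoc, hh]
    infer_instance
  have h2 : Smooth (inv (Spec.map α) ≫ Spec.map α ≫ hV.fromSpec ≫ (LefPen.hypIdeal f).subschemeι ≫ CohB1.ProjSpace.toSpec 2 k) :=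
    inferInstance
  rw [IsIso.inv_hom_id_assoc, LefPen13.fromSpec_toSpec_V] at h2
  exact RingHom.smooth_algebraMap.1 ((HasRingHomProperty.Spec_iff (P := @Smooth)).1 h2)

omit [Smooth (E ↘ Spec (CommRingCat.of k))] in
/-- A finite map onto a smooth plane curve whose coordinates generate the function field is an isomorphism. -/
theorem isIso_of_adjoin_eq_top (hdim : topologicalKrullDim E = 1) (hd : 1 ≤ d) (hf : f ≠ 0)
    [IsIntegral (LefPen.hypIdeal f).subscheme]
    [Smooth ((LefPen.hypIdeal f).subschemeι ≫ CohB1.ProjSpace.toSpec 2 k)]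
    (h : E ⟶ (LefPen.hypIdeal f).subscheme)
    (hh : h ≫ (LefPen.hypIdeal f).subschemeι ≫ CohB1.ProjSpace.toSpec 2 k = E ↘ Spec (CommRingCat.of k))
    (hξV : genericPoint E ∈ h ⁻¹ᵁ LefPen13.V (LefPen.hypIdeal f).subschemeι 2)
    (hψ : ∀ a, E.presheaf.germ _ (genericPoint E) hξV
      (h.appLE (LefPen13.V (LefPen.hypIdeal f).subschemeι 2) _ le_rfl a) = ψ a)
    (e : h (genericPoint E) = genericPoint (LefPen.hypIdeal f).subscheme)
    (htop : IntermediateField.adjoin k (Set.range ψ) = ⊤) : IsIso h := by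
  haveI : IsProper (CohB1.ProjSpace.toSpec 2 k) := ProjSpace.isProper_toSpec 2 k
  have hc : ∀ c : k, algebraMap k E.functionField c ∈ (Curve17.genMap h e).hom.fieldRange := fun c => by
    refine ⟨Curve17.baseStalk ((LefPen.hypIdeal f).subschemeι ≫ CohB1.ProjSpace.toSpec 2 k) (genericPoint _) c, ?_⟩
    have h1 := Curve17.genMap_baseStalk (E ↘ Spec (CommRingCat.of k))
      ((LefPen.hypIdeal f).subschemeι ≫ CohB1.ProjSpace.toSpec 2 k) h hh e
    exact RingHom.congr_fun (congrArg CommRingCat.Hom.hom h1) c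
  let F : IntermediateField k E.functionField := (Curve17.genMap h e).hom.fieldRange.toIntermediateField hc
  have hmemV : genericPoint (LefPen.hypIdeal f).subscheme ∈ LefPen13.V (LefPen.hypIdeal f).subschemeι 2 := e ▸ hξV
  have hF : ∀ a, ψ a ∈ F := fun a => by
    refine ⟨(LefPen.hypIdeal f).subscheme.presheaf.germ (LefPen13.V (LefPen.hypIdeal f).subschemeι 2) _ hmemV a, ?_⟩
    refine Eq.trans ?_ (hψ a)
    rw [Curve17.genMap, CommRingCat.hom_comp, RingHom.comp_apply]
    erw [TopCat.Presheaf.germ_stalkSpecializes_apply, Scheme.Hom.germ_stalkMap_apply]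
    rw [← Scheme.Hom.app_eq_appLE]
  have hgm : Function.Surjective (Curve17.genMap h e) := fun z => by
    have hz : z ∈ F := (IntermediateField.adjoin_le_iff.2 (by rintro _ ⟨a, rfl⟩; exact hF a) :
      IntermediateField.adjoin k (Set.range ψ) ≤ F) (by rw [htop]; trivial)
    exact hz
  haveI hiso : IsIso (Curve17.genMap h e) := by
    rw [ConcreteCategory.isIso_iff_bijective]
    exact ⟨(Curve17.genMap h e).hom.injective, hgm⟩
  haveI : IsIso (h.stalkMap (genericPoint E)) := by
    haveI : IsIso ((LefPen.hypIdeal f).subscheme.presheaf.stalkSpecializes (specializes_of_eq e)) :=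
      ⟨(LefPen.hypIdeal f).subscheme.presheaf.stalkSpecializes (specializes_of_eq e.symm), by simp, by simp⟩
    haveI : IsIso ((LefPen.hypIdeal f).subscheme.presheaf.stalkSpecializes (specializes_of_eq e) ≫
      h.stalkMap (genericPoint E)) := hiso
    exact IsIso.of_isIso_comp_left ((LefPen.hypIdeal f).subscheme.presheaf.stalkSpecializes (specializes_of_eq e)) _
  exact Groth.Agent.S7830.result k (E ↘ Spec (CommRingCat.of k)) _ hdim (PlaneFF17.topologicalKrullDim_hyp f hd hf)
    (fun z => ⟨inferInstance, SmoothReg17.isIntegrallyClosed_stalk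
      ((LefPen.hypIdeal f).subschemeι ≫ CohB1.ProjSpace.toSpec 2 k) z⟩) h hh e inferInstance

end Groth.Agent.WeierModel17
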