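import Groth.Agent.Lib.WeierModel17.Poly
import Groth.Agent.Lib.WeierModel17.Hom

/-!
# A genus one curve with Weierstrass coordinates is a plane cubic
-/

set_option linter.style.haveILetI false
set_option autoImplicit false
set_option maxHeartbeats 800000

universe u

open CategoryTheory CategoryTheory.Limits AlgebraicGeometry TopologicalSpace MvPolynomial

noncomputable section

namespace Groth.Agent.WeierModel17

attribute [local instance] Curv2.stalkAlgebra

variable {k : Type u} [Field k] {E : Scheme.{u}} [E.Over (Spec (CommRingCat.of k))] [IsIntegral E]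
  [IsProper (E ↘ Spec (CommRingCat.of k))] [Smooth (E ↘ Spec (CommRingCat.of k))]

omit [IsProper (E ↘ Spec (CommRingCat.of k))] [Smooth (E ↘ Spec (CommRingCat.of k))] in
/-- The affine coordinate ring of the cubic inside the function field. -/
theorem exists_chartMap {P : FunFld.Place k E.functionField} {x y : E.functionField}
    (hxo : P.ord x = -2) (hyo : P.ord y = -3) {a₁ a₂ a₃ a₄ a₆ : k}
    (hrel : y ^ 2 + algebraMap k E.functionField a₁ * x * y + algebraMap k E.functionField a₃ * y =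
      x ^ 3 + algebraMap k E.functionField a₂ * x ^ 2 + algebraMap k E.functionField a₄ * x +
        algebraMap k E.functionField a₆) :
    ∃ ψ : LefPen13.A (LefPen.hypIdeal (wForm a₁ a₂ a₃ a₄ a₆)).subschemeι 2 →ₐ[k] E.functionField,
      Function.Injective ψ ∧
      ∀ F, ψ (PlaneFF17.chartAlgHom (wForm a₁ a₂ a₃ a₄ a₆) 2 F) = aeval ![x, y, 1] F := by
  let f := wForm a₁ a₂ a₃ a₄ a₆
  let Ψ : Synt.RelGCIRing k 3 2 (PlaneFF17.chartEqs f 2) →ₐ[k] E.functionField :=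
    Ideal.Quotient.liftₐ _ (aeval ![x, y, 1]) fun a ha => (ker_aeval hxo hyo hrel).ge ha
  let ψ : LefPen13.A (LefPen.hypIdeal f).subschemeι 2 →ₐ[k] E.functionField :=
    Ψ.comp (PlaneFF17.chartEquiv f 2).symm.toAlgHom
  have hψ : ∀ F, ψ (PlaneFF17.chartAlgHom f 2 F) = aeval ![x, y, 1] F := fun F => by
    show Ψ ((PlaneFF17.chartEquiv f 2).symm (PlaneFF17.chartAlgHom f 2 F)) = _
    rw [← PlaneFF17.chartEquiv_mk, AlgEquiv.symm_apply_apply]
    rfl
  refine ⟨ψ, (injective_iff_map_eq_zero _).2 fun a ha => ?_, hψ⟩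
  obtain ⟨F, rfl⟩ := PlaneFF17.chartAlgHom_surjective f 2 a
  rw [hψ] at ha
  have h1 : F ∈ Ideal.span (Set.range (PlaneFF17.chartEqs f 2)) := (ker_aeval hxo hyo hrel).le ha
  rw [← PlaneFF17.ker_chartAlgHom] at h1
  exact h1

/-- Functions with the pole behaviour of Weierstrass coordinates give an isomorphism with the cubic, which is smooth. -/
theorem exists_iso (hdim : topologicalKrullDim E = 1)
    (h0 : Module.finrank k (Coh.HH E (Coh.structureModule E) 0) = 1) (hg : Curv2.genus k E = 1)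
    (P : FunFld.Place k E.functionField) (hP : P.deg = 1) (x y : E.functionField)
    (hx : x ∈ FunFld.L (Finsupp.single P (2 : ℤ))) (hy : y ∈ FunFld.L (Finsupp.single P (3 : ℤ)))
    (hxo : P.ord x = -2) (hyo : P.ord y = -3) (a₁ a₂ a₃ a₄ a₆ : k)
    (hrel : y ^ 2 + algebraMap k E.functionField a₁ * x * y + algebraMap k E.functionField a₃ * y =
      x ^ 3 + algebraMap k E.functionField a₂ * x ^ 2 + algebraMap k E.functionField a₄ * x +
        algebraMap k E.functionField a₆) :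
    (∀ v : Fin 3 → AlgebraicClosure k, v ≠ 0 → aeval v (wPoly a₁ a₂ a₃ a₄ a₆) = 0 →
      ∃ l, aeval v (pderiv l (wPoly a₁ a₂ a₃ a₄ a₆)) ≠ 0) ∧
      ∃ e : E ≅ (LefPen.hypIdeal (wForm a₁ a₂ a₃ a₄ a₆)).subscheme,
        e.hom ≫ (LefPen.hypIdeal (wForm a₁ a₂ a₃ a₄ a₆)).subschemeι ≫ CohB1.ProjSpace.toSpec 2 k =
          E ↘ Spec (CommRingCat.of k) := by
  have hf0 : wForm a₁ a₂ a₃ a₄ a₆ ≠ 0 := wForm_ne_zero a₁ a₂ a₃ a₄ a₆
  obtain ⟨hK, hgK⟩ := GenusFF17.genus_functionField (k := k) hdim h0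
  rw [hg] at hgK
  have hxt : Transcendental k x := FunField.transcendental_of_pole P (by omega)
  obtain ⟨ψ, hinj, hψF⟩ := exists_chartMap hxo hyo hrel
  have hX : ∀ l, ψ (PlaneFF17.chartAlgHom _ 2 (X l)) = ![x, y, 1] l := fun l => by
    rw [hψF, aeval_X]
  obtain ⟨h, hh, hfin, hξV, hψ, hgenpt⟩ := exists_hom (wForm a₁ a₂ a₃ a₄ a₆) ψ hdim hinj
    (PlaneFF17.chartAlgHom _ 2 (X 0)) (by rw [hX]; exact hxt)
  haveI := hfin
  have hγinj : Function.Injective (E.presheaf.germ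
      (h ⁻¹ᵁ LefPen13.V (LefPen.hypIdeal (wForm a₁ a₂ a₃ a₄ a₆)).subschemeι 2) (genericPoint E) hξV) := by
    haveI : Nonempty ((h ⁻¹ᵁ LefPen13.V (LefPen.hypIdeal (wForm a₁ a₂ a₃ a₄ a₆)).subschemeι 2 : E.Opens) : Scheme.{u}) :=
      ⟨⟨_, hξV⟩⟩
    exact E.germToFunctionField_injective _
  have hadj : Algebra.adjoin k ({x, y} : Set E.functionField) ≤ ψ.range := by
    refine Algebra.adjoin_le ?_
    rintro w (rfl | rfl)
    · exact ⟨_, hX 0⟩
    · exact ⟨_, hX 1⟩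
  have hψxy : ∀ (Q : FunFld.Place k E.functionField), Q ≠ P → ∀ a, Q.1 (ψ a) ≤ 1 := by
    intro Q hQ a
    have hQx : Q.1 x ≤ 1 := by
      have := FunField.mem_L.1 hx Q
      rwa [Finsupp.single_eq_of_ne hQ, WithZero.exp_zero] at this
    have hQy : Q.1 y ≤ 1 := by
      have := FunField.mem_L.1 hy Q
      rwa [Finsupp.single_eq_of_ne hQ, WithZero.exp_zero] at this
    obtain ⟨F, rfl⟩ := PlaneFF17.chartAlgHom_surjective _ 2 a
    rw [hψF]
    induction F using MvPolynomial.induction_on with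
    | C c => rw [aeval_C]; exact Q.2.1 c
    | add p q hp hq => rw [map_add]; exact (Q.1.map_add _ _).trans (max_le hp hq)
    | mul_X p l hp =>
      rw [map_mul, map_mul, aeval_X]
      refine mul_le_one' hp ?_
      fin_cases l
      · exact hQx
      · exact hQy
      · exact (map_one Q.1).le
  have hbij : Function.Bijective (h.appLE (LefPen13.V (LefPen.hypIdeal (wForm a₁ a₂ a₃ a₄ a₆)).subschemeι 2)
      (h ⁻¹ᵁ LefPen13.V (LefPen.hypIdeal (wForm a₁ a₂ a₃ a₄ a₆)).subschemeι 2) le_rfl) := by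
    refine ⟨fun a b hab => hinj ((hψ a).symm.trans ((congrArg _ hab).trans (hψ b))), fun z => ?_⟩
    obtain ⟨g, hgz⟩ : ∃ g : E.functionField, E.presheaf.germ _ (genericPoint E) hξV z = g := ⟨_, rfl⟩
    have hmem : g ∈ FunFld.L (Finsupp.single P (((-P.ord g).toNat : ℕ) : ℤ)) := by
      refine FunField.mem_L.2 fun Q => ?_
      rcases eq_or_ne Q P with rfl | hQ
      · rcases eq_or_ne g 0 with e | e
        · rw [e, map_zero]; exact zero_le
        · rw [Finsupp.single_eq_same, FunField.val_le_exp_iff _ e]; omega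
      · rw [Finsupp.single_eq_of_ne hQ, WithZero.exp_zero, ← hgz]
        exact val_germ_le_one ψ h hξV hψ Q (hψxy Q hQ) z
    obtain ⟨a, ha⟩ := hadj (mem_adjoin_of_mem_L hK hgK hP hx hy hxo hyo _ _ hmem)
    exact ⟨a, hγinj ((hψ a).trans (ha.trans hgz.symm))⟩
  have hA := smooth_chart_of_bijective h hh hbij
  have hns : ∀ v : Fin 3 → AlgebraicClosure k, v ≠ 0 → aeval v (wPoly a₁ a₂ a₃ a₄ a₆) = 0 →
      ∃ l, aeval v (pderiv l (wPoly a₁ a₂ a₃ a₄ a₆)) ≠ 0 := by
    intro v hv hv0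
    by_cases hv2 : v 2 = 0
    · exact nonsingular_infinity v hv hv2 hv0
    · have hhom := isHomogeneous_wPoly a₁ a₂ a₃ a₄ a₆
      obtain ⟨l, hl⟩ := (PlaneFF17.smooth_chart_iff (wForm a₁ a₂ a₃ a₄ a₆) (by norm_num) hf0 2).1 hA
        (fun i => (v 2)⁻¹ * v i) (inv_mul_cancel₀ hv2) (by
          show aeval _ (wPoly a₁ a₂ a₃ a₄ a₆) = 0
          rw [PlaneFF17.aeval_scale hhom, hv0, mul_zero])
      refine ⟨l, fun e => hl ?_⟩
      show aeval _ (pderiv l (wPoly a₁ a₂ a₃ a₄ a₆)) = 0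
      rw [PlaneFF17.aeval_scale hhom.pderiv, e, mul_zero]
  refine ⟨hns, ?_⟩
  haveI hsm : Smooth ((LefPen.hypIdeal (wForm a₁ a₂ a₃ a₄ a₆)).subschemeι ≫ CohB1.ProjSpace.toSpec 2 k) :=
    (PlaneFF17.smooth_iff _ (by norm_num) hf0).2 hns
  haveI : IsIntegral (LefPen.hypIdeal (wForm a₁ a₂ a₃ a₄ a₆)).subscheme := by
    letI : (LefPen.hypIdeal (wForm a₁ a₂ a₃ a₄ a₆)).subscheme.Over (Spec (CommRingCat.of k)) :=
      ⟨(LefPen.hypIdeal (wForm a₁ a₂ a₃ a₄ a₆)).subschemeι ≫ CohB1.ProjSpace.toSpec 2 k⟩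
    haveI : Smooth ((LefPen.hypIdeal (wForm a₁ a₂ a₃ a₄ a₆)).subscheme ↘ Spec (CommRingCat.of k)) := hsm
    exact (PlaneFF17.isIntegral_hyp _ (by norm_num) hf0 rfl).2
  have htop : IntermediateField.adjoin k (Set.range ψ) = ⊤ := by
    refine top_le_iff.1 ((FunField.adjoin_pair_eq_top (FunField.ff hK) hP (by norm_num : 0 < 2) (by norm_num : 0 < 3)
      (by decide) hx hxo hy hyo).ge.trans (IntermediateField.adjoin.mono k _ _ ?_))
    rintro w (rfl | rfl)
    · exact ⟨_, hX 0⟩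
    · exact ⟨_, hX 1⟩
  haveI : IsIso h := isIso_of_adjoin_eq_top ψ hdim (by norm_num) hf0 h hh hξV hψ hgenpt htop
  exact ⟨asIso h, hh⟩

end Groth.Agent.WeierModel17
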