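import Groth.Prelude.Def_LefPen
import Groth.Agent.Lib.FunField.GenusOne
import Mathlib.Algebra.MvPolynomial.PDeriv
import Mathlib.RingTheory.MvPolynomial.Homogeneous

/-!
# Weierstrass cubics: the polynomial, and coordinates on a genus one function field
-/

set_option autoImplicit false
set_option maxHeartbeats 1000000

universe u

open MvPolynomial

noncomputable section

namespace Groth.Agent.WeierModel17

section poly

variable {k : Type u} [Field k] (a₁ a₂ a₃ a₄ a₆ : k)

/-- The homogeneous Weierstrass polynomial. -/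
def wPoly : MvPolynomial (Fin (2 + 1)) k :=
  X 1 ^ 2 * X 2 + C a₁ * X 0 * X 1 * X 2 + C a₃ * X 1 * X 2 ^ 2 - X 0 ^ 3 - C a₂ * X 0 ^ 2 * X 2
    - C a₄ * X 0 * X 2 ^ 2 - C a₆ * X 2 ^ 3

theorem isHomogeneous_wPoly : (wPoly a₁ a₂ a₃ a₄ a₆).IsHomogeneous 3 := by
  have hX : ∀ i : Fin (2 + 1), (X i : MvPolynomial (Fin (2 + 1)) k).IsHomogeneous 1 := isHomogeneous_X k
  refine (((((((hX 1).pow 2).mul (hX 2)).add ((((hX 0).C_mul a₁).mul (hX 1)).mul (hX 2))).add
    (((hX 1).C_mul a₃).mul ((hX 2).pow 2))).sub ((hX 0).pow 3)).sub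
      ((((hX 0).pow 2).C_mul a₂).mul (hX 2))).sub (((hX 0).C_mul a₄).mul ((hX 2).pow 2)) |>.sub
        (((hX 2).pow 3).C_mul a₆)

/-- The Weierstrass cubic as a form. -/
def wForm : LefPen.Form 2 k 3 := ⟨wPoly a₁ a₂ a₃ a₄ a₆, isHomogeneous_wPoly a₁ a₂ a₃ a₄ a₆⟩

theorem wForm_ne_zero : wForm a₁ a₂ a₃ a₄ a₆ ≠ 0 := by
  intro h
  have h1 := congrArg (fun F : LefPen.Form 2 k 3 => eval ![1, 0, 0] F.1) h
  simp [wForm, wPoly] at h1

variable {a₁ a₂ a₃ a₄ a₆}

theorem aeval_wPoly {R : Type*} [CommRing R] [Algebra k R] (v : Fin (2 + 1) → R) :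
    aeval v (wPoly a₁ a₂ a₃ a₄ a₆) = v 1 ^ 2 * v 2 + algebraMap k R a₁ * v 0 * v 1 * v 2
      + algebraMap k R a₃ * v 1 * v 2 ^ 2 - v 0 ^ 3 - algebraMap k R a₂ * v 0 ^ 2 * v 2
      - algebraMap k R a₄ * v 0 * v 2 ^ 2 - algebraMap k R a₆ * v 2 ^ 3 := by
  simp [wPoly]

/-- The point at infinity is not singular. -/
theorem nonsingular_infinity {R : Type*} [Field R] [Algebra k R] (v : Fin (2 + 1) → R) (hv : v ≠ 0) (h2 : v 2 = 0)
    (h : aeval v (wPoly a₁ a₂ a₃ a₄ a₆) = 0) :
    ∃ l, aeval v (pderiv l (wPoly a₁ a₂ a₃ a₄ a₆)) ≠ 0 := by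
  refine ⟨2, ?_⟩
  rw [aeval_wPoly, h2] at h
  simp at h
  have h1 : v 1 ≠ 0 := fun h1 => hv (funext fun i => by fin_cases i <;> simp [h, h1, h2])
  simp [wPoly, h2, h, h1]

end poly

section field

open FunFld WithZero

variable {k : Type u} {K : Type*} [Field k] [Field K] [Algebra k K]
  {P : Place k K} {x y : K} (hxo : P.ord x = -2) (hyo : P.ord y = -3)

include hxo hyo in
/-- The monomial with a pole of given order. -/
theorem exists_monomial (n : ℕ) (hn : 2 ≤ n) :
    ∃ i j : ℕ, 2 * i + 3 * j = n ∧ j ≤ 1 ∧ P.ord (x ^ i * y ^ j) = -(n : ℤ) := by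
  have hx0 : x ≠ 0 := fun e => by rw [e, FunField.ord_zero] at hxo; omega
  have hy0 : y ≠ 0 := fun e => by rw [e, FunField.ord_zero] at hyo; omega
  refine ⟨(n - 3 * (n % 2)) / 2, n % 2, by omega, by omega, ?_⟩
  rw [FunField.ord_mul P (pow_ne_zero _ hx0) (pow_ne_zero _ hy0), FunField.ord_pow, FunField.ord_pow, hxo, hyo]
  omega

/-- Functions with poles only at the origin are polynomials in the coordinates. -/
theorem mem_adjoin_of_mem_L (hK : IsFunctionField k K) (hg : genus k K = 1) (hP : P.deg = 1)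
    (hx : x ∈ FunFld.L (Finsupp.single P (2 : ℤ))) (hy : y ∈ FunFld.L (Finsupp.single P (3 : ℤ)))
    (hxo : P.ord x = -2) (hyo : P.ord y = -3) :
    ∀ (n : ℕ) (z : K), z ∈ FunFld.L (Finsupp.single P (n : ℤ)) → z ∈ Algebra.adjoin k ({x, y} : Set K) := by
  have h := FunField.ff hK
  have hx0 : x ≠ 0 := fun e => by rw [e, FunField.ord_zero] at hxo; omega
  have hy0 : y ≠ 0 := fun e => by rw [e, FunField.ord_zero] at hyo; omega
  intro n
  induction n using Nat.strong_induction_on with
  | _ n ih =>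
    intro z hz
    rcases Nat.lt_or_ge n 2 with hn | hn
    · have hc : ∀ w ∈ FunFld.L (0 : Divisor k K), w ∈ Algebra.adjoin k ({x, y} : Set K) := fun w hw => by
        obtain ⟨c, rfl⟩ := hK.2 w (FunField.isAlgebraic_of_mem_L_zero h hw)
        exact Subalgebra.algebraMap_mem _ c
      interval_cases n
      · exact hc z (by simpa using hz)
      · haveI := FunField.finiteDimensional_L h (Finsupp.single P ((1 : ℕ) : ℤ))
        have hle : FunFld.L (0 : Divisor k K) ≤ FunFld.L (Finsupp.single P ((1 : ℕ) : ℤ)) :=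
          FunField.L_mono (by simp)
        have h1 := FunField.ell_g1_single hK hg hP (n := 1) le_rfl
        have h1' : (1 : K) ∈ FunFld.L (0 : Divisor k K) := FunField.mem_L.2 fun Q => by simp
        haveI := FunField.finiteDimensional_L h (0 : Divisor k K)
        have h0 : 0 < Module.finrank k (FunFld.L (0 : Divisor k K)) :=
          Module.finrank_pos_iff.2 ⟨⟨⟨1, h1'⟩, 0, fun e => one_ne_zero (congrArg Subtype.val e)⟩⟩
        have he := Submodule.eq_of_le_of_finrank_le hle (by
          unfold FunFld.ell at h1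
          push_cast at h1 ⊢
          omega)
        exact hc z (he ▸ hz)
    · obtain ⟨i, j, hij, -, hord⟩ := exists_monomial hxo hyo n hn
      have hm0 : x ^ i * y ^ j ≠ 0 := mul_ne_zero (pow_ne_zero _ hx0) (pow_ne_zero _ hy0)
      have hmem : x ^ i * y ^ j ∈ FunFld.L (Finsupp.single P (n : ℤ)) := by
        refine (FunField.mem_L_iff_ord hm0).2 fun Q => ?_
        rcases eq_or_ne Q P with rfl | hQ
        · rw [hord, Finsupp.single_eq_same]; omega
        · have h1 := (FunField.mem_L_iff_ord hx0).1 hx Q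
          have h2 := (FunField.mem_L_iff_ord hy0).1 hy Q
          rw [Finsupp.single_eq_of_ne hQ, add_zero] at h1 h2 ⊢
          rw [FunField.ord_mul Q (pow_ne_zero _ hx0) (pow_ne_zero _ hy0), FunField.ord_pow, FunField.ord_pow]
          positivity
      haveI := FunField.finiteDimensional_L h (Finsupp.single P (n : ℤ))
      have hle : FunFld.L (Finsupp.single P ((n - 1 : ℕ) : ℤ)) ⊔ k ∙ (x ^ i * y ^ j) ≤ FunFld.L (Finsupp.single P (n : ℤ)) :=
        sup_le (FunField.L_mono (Finsupp.single_mono (by omega))) ((Submodule.span_singleton_le_iff_mem _ _).2 hmem)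
      have hn1 := FunField.ell_g1_single hK hg hP (n := ((n - 1 : ℕ) : ℤ)) (by omega)
      have hn2 := FunField.ell_g1_single hK hg hP (n := (n : ℤ)) (by omega)
      unfold FunFld.ell at hn1 hn2
      have hlt : FunFld.L (Finsupp.single P ((n - 1 : ℕ) : ℤ)) <
          FunFld.L (Finsupp.single P ((n - 1 : ℕ) : ℤ)) ⊔ k ∙ (x ^ i * y ^ j) := by
        refine lt_of_le_not_ge le_sup_left fun hc => ?_
        have h1 := (FunField.mem_L_iff_ord hm0).1 (hc (Submodule.mem_sup_right (Submodule.mem_span_singleton_self _))) P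
        rw [hord, Finsupp.single_eq_same] at h1
        omega
      haveI := Submodule.finiteDimensional_of_le hle
      have hfr := Submodule.finrank_lt_finrank_of_lt hlt
      have he := Submodule.eq_of_le_of_finrank_le hle (by omega)
      rw [← he] at hz
      obtain ⟨w, hw, t, ht, rfl⟩ := Submodule.mem_sup.1 hz
      obtain ⟨c, rfl⟩ := Submodule.mem_span_singleton.1 ht
      have hxA : x ∈ Algebra.adjoin k ({x, y} : Set K) := Algebra.subset_adjoin (Set.mem_insert x _)
      have hyA : y ∈ Algebra.adjoin k ({x, y} : Set K) := Algebra.subset_adjoin (Set.mem_insert_of_mem x (Set.mem_singleton y))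
      exact add_mem (ih (n - 1) (by omega) w hw) (Subalgebra.smul_mem _ (mul_mem (pow_mem hxA i) (pow_mem hyA j)) c)

include hxo hyo in
/-- `1, y` are independent over `k[x]`. -/
theorem indep {A B : Polynomial k} (h : Polynomial.aeval x A + Polynomial.aeval x B * y = 0) : A = 0 ∧ B = 0 := by
  have hx0 : x ≠ 0 := fun e => by rw [e, FunField.ord_zero] at hxo; omega
  have hy0 : y ≠ 0 := fun e => by rw [e, FunField.ord_zero] at hyo; omega
  have hxv : P.1 x = exp (2 : ℤ) := by rw [FunField.val_eq_exp_neg_ord P hx0, hxo]; norm_num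
  have hpos : ∀ {p : Polynomial k}, p ≠ 0 → P.1 (Polynomial.aeval x p) = exp (2 * (p.natDegree : ℤ)) := by
    intro p hp
    rw [Polynomial.aeval_eq_sum_range, Valuation.map_sum_eq_of_lt P.1 (j := p.natDegree)
      (Finset.mem_range.2 (Nat.lt_succ_self _))]
    · rw [Algebra.smul_def, map_mul, FunField.val_const P (by simpa using Polynomial.leadingCoeff_ne_zero.2 hp),
        one_mul, map_pow, hxv, ← exp_nsmul]
      congr 1
      simp; ring
    · intro i hi
      rw [Finset.mem_sdiff, Finset.mem_range, Finset.mem_singleton] at hi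
      rw [Algebra.smul_def, map_mul, Algebra.smul_def, map_mul,
        FunField.val_const P (c := p.coeff p.natDegree) (by simpa using Polynomial.leadingCoeff_ne_zero.2 hp), one_mul,
        map_pow, map_pow, hxv]
      refine lt_of_le_of_lt (mul_le_of_le_one_left' (P.2.1 _)) ?_
      rw [← exp_nsmul, ← exp_nsmul, exp_lt_exp]
      simp
      omega
  have hA : ∀ {p : Polynomial k}, Polynomial.aeval x p = 0 → p = 0 := fun {p} hp => by
    by_contra hne
    exact exp_ne_zero ((hpos hne).symm.trans (by rw [hp, map_zero]))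
  rcases eq_or_ne B 0 with rfl | hB
  · simp at h
    exact ⟨hA h, rfl⟩
  exfalso
  rcases eq_or_ne A 0 with rfl | hA0
  · simp [hy0] at h
    exact hB (hA h)
  have h1 : P.1 (Polynomial.aeval x A) = P.1 (Polynomial.aeval x B * y) := by
    rw [eq_neg_of_add_eq_zero_left h, Valuation.map_neg]
  rw [map_mul, hpos hA0, hpos hB, FunField.val_eq_exp_neg_ord P hy0, hyo, ← exp_add, exp_inj] at h1
  omega

variable {a₁ a₂ a₃ a₄ a₆ : k}

include hxo hyo in
/-- The relations between the coordinates. -/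
theorem ker_aeval
    (hrel : y ^ 2 + algebraMap k K a₁ * x * y + algebraMap k K a₃ * y =
      x ^ 3 + algebraMap k K a₂ * x ^ 2 + algebraMap k K a₄ * x + algebraMap k K a₆) :
    RingHom.ker (aeval (R := k) ![x, y, 1]).toRingHom =
      Ideal.span (Set.range ![wPoly a₁ a₂ a₃ a₄ a₆, X 2 - 1]) := by
  set I := Ideal.span (Set.range ![wPoly a₁ a₂ a₃ a₄ a₆, X 2 - 1]) with hI
  have hw : wPoly a₁ a₂ a₃ a₄ a₆ ∈ I := Ideal.subset_span ⟨0, rfl⟩
  have h2 : (X 2 - 1 : MvPolynomial (Fin (2 + 1)) k) ∈ I := Ideal.subset_span ⟨1, rfl⟩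
  have hle : I ≤ RingHom.ker (aeval (R := k) ![x, y, 1]).toRingHom := by
    rw [hI, Ideal.span_le]
    rintro _ ⟨i, rfl⟩
    fin_cases i
    · show aeval ![x, y, 1] (wPoly a₁ a₂ a₃ a₄ a₆) = 0
      rw [aeval_wPoly]
      simp
      linear_combination hrel
    · show aeval ![x, y, 1] (X 2 - 1) = 0
      simp
  let e : Polynomial k →ₐ[k] MvPolynomial (Fin (2 + 1)) k := Polynomial.aeval (X 0)
  have hX : e Polynomial.X = X 0 := Polynomial.aeval_X _
  have hC : ∀ c, e (Polynomial.C c) = C c := fun c => Polynomial.aeval_C _ c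
  let q : MvPolynomial (Fin (2 + 1)) k →+* MvPolynomial (Fin (2 + 1)) k ⧸ I := Ideal.Quotient.mk I
  have hq2 : q (X 2) = 1 := by rw [← map_one q]; exact Ideal.Quotient.eq.2 h2
  have hqw : q (X 1) * q (X 1) = q (e (Polynomial.X ^ 3 + Polynomial.C a₂ * Polynomial.X ^ 2 + Polynomial.C a₄ * Polynomial.X + Polynomial.C a₆))
      - q (e (Polynomial.C a₁ * Polynomial.X + Polynomial.C a₃)) * q (X 1) := by
    have h0 : q (wPoly a₁ a₂ a₃ a₄ a₆) = 0 := Ideal.Quotient.eq_zero_iff_mem.2 hw
    simp only [wPoly, map_add, map_sub, map_mul, map_pow, hq2, one_pow, mul_one] at h0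
    simp only [map_add, map_mul, map_pow, hX, hC]
    linear_combination h0
  have hnf : ∀ F, ∃ A B : Polynomial k, q F = q (e A) + q (e B) * q (X 1) := by
    intro F
    induction F using MvPolynomial.induction_on with
    | C c => exact ⟨Polynomial.C c, 0, by simp [hC]⟩
    | add p r hp hr =>
      obtain ⟨A, B, h⟩ := hp
      obtain ⟨A', B', h'⟩ := hr
      exact ⟨A + A', B + B', by simp only [map_add, h, h']; ring⟩
    | mul_X p i hp =>
      obtain ⟨A, B, h⟩ := hp
      fin_cases i
      · exact ⟨A * Polynomial.X, B * Polynomial.X, by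
          simp only [map_mul, h, hX]; show _ * q (X 0) = _; ring⟩
      · refine ⟨B * (Polynomial.X ^ 3 + Polynomial.C a₂ * Polynomial.X ^ 2 + Polynomial.C a₄ * Polynomial.X + Polynomial.C a₆),
          A - B * (Polynomial.C a₁ * Polynomial.X + Polynomial.C a₃), ?_⟩
        simp only [map_mul, map_sub, h]
        show _ * q (X 1) = _
        linear_combination (q (e B)) * hqw
      · exact ⟨A, B, by
          simp only [map_mul, h]; show _ * q (X 2) = _; rw [hq2, mul_one]⟩
  refine le_antisymm (fun F hF => ?_) hle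
  obtain ⟨A, B, h⟩ := hnf F
  have hmem : F - (e A + e B * X 1) ∈ I := Ideal.Quotient.eq.1 (by rw [map_add, map_mul]; exact h)
  have h0 := hle hmem
  have hF' : aeval ![x, y, 1] F = 0 := hF
  have hcomp : ∀ p : Polynomial k, aeval ![x, y, 1] (e p) = Polynomial.aeval x p := fun p => by
    rw [← Polynomial.aeval_algHom_apply, aeval_X]; rfl
  replace h0 : aeval ![x, y, 1] (F - (e A + e B * X 1)) = 0 := h0
  rw [map_sub, hF', map_add, map_mul, hcomp, hcomp, aeval_X, zero_sub, neg_eq_zero] at h0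
  obtain ⟨rfl, rfl⟩ := indep hxo hyo (A := A) (B := B) (by simpa using h0)
  simpa using hmem

end field

end Groth.Agent.WeierModel17
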