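import Groth.Agent.Lib.WeierModel17.Model
import Groth.Agent.Lib.WeierModel17.Coords
import Groth.Agent.Lib.FunField.Weights
import Groth.Agent.Lib.FunField.Degree
import Mathlib.FieldTheory.IsAlgClosed.Basic

/-!
# Legendre normal form
-/

set_option linter.style.haveILetI false
set_option autoImplicit false
set_option maxHeartbeats 800000

universe u

open CategoryTheory CategoryTheory.Limits AlgebraicGeometry MvPolynomial

noncomputable section

namespace Groth.Agent.WeierModel17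

section sing

variable {k : Type u} [Field k]

/-- A double root of the cubic gives a singular point of `y² = c(x)`. -/
theorem false_of_double_root {b₂ b₄ b₆ : k}
    (hns : ∀ v : Fin 3 → AlgebraicClosure k, v ≠ 0 → aeval v (wPoly 0 b₂ 0 b₄ b₆) = 0 →
      ∃ l, aeval v (pderiv l (wPoly 0 b₂ 0 b₄ b₆)) ≠ 0) (e : k)
    (h0 : e ^ 3 + b₂ * e ^ 2 + b₄ * e + b₆ = 0) (h1 : 3 * e ^ 2 + 2 * b₂ * e + b₄ = 0) : False := by
  let φ := algebraMap k (AlgebraicClosure k)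
  have E0 : φ e ^ 3 + φ b₂ * φ e ^ 2 + φ b₄ * φ e + φ b₆ = 0 := by
    simpa [φ, map_ofNat] using congrArg φ h0
  have E1 : 3 * φ e ^ 2 + 2 * φ b₂ * φ e + φ b₄ = 0 := by
    simpa [φ, map_ofNat] using congrArg φ h1
  obtain ⟨l, hl⟩ := hns ![φ e, 0, 1] (fun h => by simpa using congrFun h 2) (by
    rw [aeval_wPoly]; simp; linear_combination -E0)
  refine hl ?_
  fin_cases l
  · simp [wPoly, φ] at *
    linear_combination -E1
  · simp [wPoly]
  · simp [wPoly, φ] at *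
    linear_combination (φ e) * E1 - 3 * E0

end sing

attribute [local instance] Curv2.stalkAlgebra

variable {k : Type u} [Field k] [IsAlgClosed k] {E : Scheme.{u}} [E.Over (Spec (CommRingCat.of k))] [IsIntegral E]
  [IsProper (E ↘ Spec (CommRingCat.of k))] [Smooth (E ↘ Spec (CommRingCat.of k))]

/-- An elliptic curve over an algebraically closed field of characteristic not two in Legendre form. -/
theorem exists_iso_legendre (h2 : (2 : k) ≠ 0) (hdim : topologicalKrullDim E = 1)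
    (h0 : Module.finrank k (Coh.HH E (Coh.structureModule E) 0) = 1) (hg : Curv2.genus k E = 1) :
    ∃ l : k, l ≠ 0 ∧ l ≠ 1 ∧ ∃ e : E ≅ (LefPen.hypIdeal (wForm 0 (-(1 + l)) 0 l 0)).subscheme,
      e.hom ≫ (LefPen.hypIdeal (wForm 0 (-(1 + l)) 0 l 0)).subschemeι ≫ CohB1.ProjSpace.toSpec 2 k =
        E ↘ Spec (CommRingCat.of k) := by
  obtain ⟨hK, hgK⟩ := GenusFF17.genus_functionField (k := k) hdim h0
  rw [hg] at hgK
  obtain ⟨P⟩ := FunField.nonempty_place (FunField.ff hK)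
  have hP := FunField.deg_eq_one (FunField.ff hK) P
  obtain ⟨a₁, a₂, a₃, a₄, a₆, x, y, hc⟩ := exists_coords hK hgK P hP
  -- complete the square
  obtain ⟨hx1, hy1, hxo1, hyo1⟩ := change hc.memx hc.memy hc.ordx hc.ordy 1 1 0 (a₁ / 2) (a₃ / 2) one_ne_zero one_ne_zero
  simp only [map_one, one_mul, map_zero, add_zero] at hx1 hy1 hxo1 hyo1
  obtain ⟨y₁, hy₁⟩ : ∃ w, w = y + algebraMap k E.functionField (a₁ / 2) * x + algebraMap k E.functionField (a₃ / 2) := ⟨_, rfl⟩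
  rw [← hy₁] at hy1 hyo1
  have h2' : (2 : E.functionField) ≠ 0 := by
    rw [← map_ofNat (algebraMap k E.functionField) 2]
    exact (map_ne_zero _).2 h2
  obtain ⟨b₂, hb₂⟩ : ∃ b, b = a₂ + a₁ ^ 2 / 4 := ⟨_, rfl⟩
  obtain ⟨b₄, hb₄⟩ : ∃ b, b = a₄ + a₁ * a₃ / 2 := ⟨_, rfl⟩
  obtain ⟨b₆, hb₆⟩ : ∃ b, b = a₆ + a₃ ^ 2 / 4 := ⟨_, rfl⟩
  have h4' : (4 : E.functionField) ≠ 0 := by
    rw [show (4 : E.functionField) = 2 * 2 by norm_num]; exact mul_ne_zero h2' h2'
  have hrel1 : y₁ ^ 2 + algebraMap k E.functionField 0 * x * y₁ + algebraMap k E.functionField 0 * y₁ =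
      x ^ 3 + algebraMap k E.functionField b₂ * x ^ 2 + algebraMap k E.functionField b₄ * x + algebraMap k E.functionField b₆ := by
    simp only [hy₁, hb₂, hb₄, hb₆, map_zero, map_add, map_mul, map_div₀, map_pow, map_ofNat]
    field_simp
    linear_combination 16 * hc.rel
  obtain ⟨hns, -⟩ := exists_iso hdim h0 hg P hP x y₁ hx1 hy1 hxo1 hyo1 0 b₂ 0 b₄ b₆ hrel1
  -- the roots
  obtain ⟨p₁, hp₁⟩ : ∃ p, p = Polynomial.X ^ 3 + Polynomial.C b₂ * Polynomial.X ^ 2 +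
    Polynomial.C b₄ * Polynomial.X + Polynomial.C b₆ := ⟨_, rfl⟩
  have hd₁ : p₁.natDegree = 3 := by subst hp₁; compute_degree!
  obtain ⟨e₁, he₁⟩ := IsAlgClosed.exists_root p₁ (fun h => by
    simp [Polynomial.natDegree, h] at hd₁)
  obtain ⟨p₂, hp₂⟩ : ∃ p, p = Polynomial.X ^ 2 + Polynomial.C (e₁ + b₂) * Polynomial.X +
    Polynomial.C (e₁ ^ 2 + b₂ * e₁ + b₄) := ⟨_, rfl⟩
  have hd₂ : p₂.natDegree = 2 := by subst hp₂; compute_degree!
  obtain ⟨e₂, he₂⟩ := IsAlgClosed.exists_root p₂ (fun h => by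
    simp [Polynomial.natDegree, h] at hd₂)
  subst hp₁ hp₂
  simp only [Polynomial.IsRoot.def, Polynomial.eval_add, Polynomial.eval_mul, Polynomial.eval_pow, Polynomial.eval_X,
    Polynomial.eval_C] at he₁ he₂
  obtain ⟨e₃, he₃⟩ : ∃ e, e = -(e₁ + b₂) - e₂ := ⟨_, rfl⟩
  have v2 : b₂ = -(e₁ + e₂ + e₃) := by linear_combination he₃
  have v4 : b₄ = e₁ * e₂ + e₁ * e₃ + e₂ * e₃ := by linear_combination he₂ - (e₁ + e₂) * he₃
  have v6 : b₆ = -(e₁ * e₂ * e₃) := by linear_combination he₁ - e₁ * he₂ + e₁ * e₂ * he₃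
  have h12 : e₁ ≠ e₂ := fun e => false_of_double_root hns e₁
    (by subst e; rw [v2, v4, v6]; ring) (by subst e; rw [v2, v4]; ring)
  have h13 : e₁ ≠ e₃ := fun e => false_of_double_root hns e₁
    (by rw [v2, v4, v6, ← e]; ring) (by rw [v2, v4, ← e]; ring)
  have h23 : e₂ ≠ e₃ := fun e => false_of_double_root hns e₂
    (by rw [v2, v4, v6, ← e]; ring) (by rw [v2, v4, ← e]; ring)
  obtain ⟨d, hd⟩ : ∃ d, d = e₂ - e₁ := ⟨_, rfl⟩
  have hd0 : d ≠ 0 := hd ▸ sub_ne_zero.2 h12.symm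
  obtain ⟨t, ht⟩ := IsAlgClosed.exists_pow_nat_eq ((d⁻¹) ^ 3) (by norm_num : 0 < 2)
  have ht0 : t ≠ 0 := fun e => by
    rw [e, zero_pow two_ne_zero] at ht
    exact pow_ne_zero 3 (inv_ne_zero hd0) ht.symm
  obtain ⟨hx3, hy3, hxo3, hyo3⟩ := change hx1 hy1 hxo1 hyo1 d⁻¹ t (-(e₁ / d)) 0 0 (inv_ne_zero hd0) ht0
  simp only [map_zero, zero_mul, add_zero] at hy3 hyo3
  obtain ⟨l, hl⟩ : ∃ l, l = (e₃ - e₁) / d := ⟨_, rfl⟩
  refine ⟨l, ?_, ?_, (exists_iso hdim h0 hg P hP _ _ hx3 hy3 hxo3 hyo3 0 (-(1 + l)) 0 l 0 ?_).2⟩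
  · rw [hl]; exact div_ne_zero (sub_ne_zero.2 h13.symm) hd0
  · rw [hl, Ne, div_eq_one_iff_eq hd0, hd]
    exact fun e => h23 (by linear_combination -e)
  · have hdK : algebraMap k E.functionField e₂ - algebraMap k E.functionField e₁ ≠ 0 := by
      rw [← map_sub, ← hd]; exact (map_ne_zero _).2 hd0
    have htK : algebraMap k E.functionField t ^ 2 = (algebraMap k E.functionField d)⁻¹ ^ 3 := by
      rw [← map_pow, ht, map_pow, map_inv₀]
    rw [v2, v4, v6] at hrel1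
    simp only [hl, hd, map_zero, zero_mul, add_zero, map_neg, map_add, map_mul, map_sub, map_div₀, map_inv₀, map_one] at hrel1 htK ⊢
    rw [mul_pow, htK, hrel1]
    field_simp
    ring

end Groth.Agent.WeierModel17
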